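import Groth.Agent.SpecSubLib.Basic
import Mathlib.Topology.Spectral.Hom
import Mathlib.Topology.Category.TopCat.Limits.Basic
import Mathlib.CategoryTheory.Filtered.Basic
import Mathlib.CategoryTheory.Limits.Types.Limits
import Mathlib.CategoryTheory.Limits.Preserves.Basic

/-! # Cofiltered limits of spectral spaces -/

set_option autoImplicit false
universe u

open Topology TopologicalSpace Set CategoryTheory CategoryTheory.Limits

namespace Groth.Agent.LimSpecLib

open Groth.Agent.SpecSubLib

theorem isCompact_preimage_pi {Y : Type*} [TopologicalSpace Y] {I : Type*} {g : Y → (I → Prop)}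
    (hg : ∀ F : Finset I, IsCompact (g ⁻¹' box F)) {s : Set (I → Prop)} (hso : IsOpen s) (hsc : IsCompact s) :
    IsCompact (g ⁻¹' s) := by
  classical
  obtain ⟨t, ht⟩ := hsc.elim_finite_subcover (fun F : {F : Finset I // box F ⊆ s} => box F.1)
    (fun F => isOpen_box F.1) fun p hp => by
      obtain ⟨_, ⟨F, rfl⟩, hF, hFs⟩ := isTopologicalBasis_box.exists_subset_of_mem_open hp hso
      exact Set.mem_iUnion.mpr ⟨⟨F, hFs⟩, hF⟩
  rw [Set.Subset.antisymm ht (Set.iUnion₂_subset fun F _ => F.2), Set.preimage_iUnion₂]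
  exact t.isCompact_biUnion fun F _ => hg F.1

theorem continuous_cons_pi {Y : Type*} [TopologicalSpace Y] {I : Type*} {g : Y → (I → Prop)} (hc : Continuous g)
    (hg : ∀ F : Finset I, IsCompact (g ⁻¹' box F)) :
    @Continuous Y (I → Prop) (constructibleTopology Y) (constructibleTopology (I → Prop)) g := by
  refine continuous_generateFrom_iff.mpr fun s hs => ?_
  rcases hs with ⟨ho, hcs⟩ | ⟨hcl, hcs⟩
  · exact (isCompact_preimage_pi hg ho hcs).isOpen_constructibleTopology_of_isOpen (ho.preimage hc)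
  · exact IsCompact.isOpen_constructibleTopology_of_isClosed
      (by rw [← Set.preimage_compl]; exact isCompact_preimage_pi hg hcl.isOpen_compl hcs) (hcl.preimage hc)

theorem isClosed_range_pi {Y : Type*} [TopologicalSpace Y] [SpectralSpace Y] {I : Type*} {g : Y → (I → Prop)}
    (hc : Continuous g) (hg : ∀ F : Finset I, IsCompact (g ⁻¹' box F)) :
    IsClosed[constructibleTopology (I → Prop)] (Set.range g) := by
  haveI := spectralSpace_pi (I := I)
  have hK := @IsCompact.image Y (I → Prop) (constructibleTopology Y) (constructibleTopology (I → Prop)) Set.univ g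
    (@isCompact_univ Y (constructibleTopology Y) ProConsLib.compactSpace_cons) (continuous_cons_pi hc hg)
  rw [Set.image_univ] at hK
  exact @IsCompact.isClosed (I → Prop) (constructibleTopology (I → Prop)) ProConsLib.t2Space_cons _ hK

/-- The compact open subsets. -/
abbrev CO (X : Type u) [TopologicalSpace X] := {U : Set X // IsOpen U ∧ IsCompact U}

/-- The membership map to a power of the Sierpiński space. -/
def mem' {X : Type u} [TopologicalSpace X] (x : X) : CO X → Prop := fun U => x ∈ U.1

theorem continuous_mem' {X : Type u} [TopologicalSpace X] : Continuous (mem' (X := X)) :=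
  continuous_pi fun U => continuous_Prop.mpr U.2.1

theorem isCompact_preimage_mem' {X : Type u} [TopologicalSpace X] [SpectralSpace X] (F : Finset (CO X)) :
    IsCompact (mem' (X := X) ⁻¹' box F) := by
  have : mem' (X := X) ⁻¹' box F = ⋂₀ ((fun U : CO X => U.1) '' (F : Set (CO X))) := by
    ext x; simp [mem', box]
  rw [this]
  exact QuasiSeparatedSpace.isCompact_sInter (F.finite_toSet.image _)
    (by rintro _ ⟨U, -, rfl⟩; exact Or.inl U.2.1) (by rintro _ ⟨U, -, rfl⟩; exact U.2.2)

variable {J : Type u} [SmallCategory J] {F : J ⥤ TopCat.{u}}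

/-- All compact opens of all the spaces in the diagram. -/
abbrev Coord (F : J ⥤ TopCat.{u}) := Σ j : J, CO (F.obj j)

/-- Membership map of a cone point. -/
def coord (c : Cone F) (x : c.pt) : Coord F → Prop := fun k => c.π.app k.1 x ∈ k.2.1

theorem continuous_coord (c : Cone F) : Continuous (coord c) :=
  continuous_pi fun k => continuous_Prop.mpr (k.2.2.1.preimage (c.π.app k.1).hom.continuous)

theorem isInducing_coord (c : Cone F) (hc : IsLimit c) [∀ j, SpectralSpace (F.obj j)] : IsInducing (coord c) := by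
  refine ⟨le_antisymm (continuous_coord c).le_induced ?_⟩
  rw [TopCat.induced_of_isLimit c hc]
  refine le_iInf fun j => ?_
  refine continuous_iff_le_induced.mp (@continuous_def _ _ (TopologicalSpace.induced (coord c) inferInstance) _ _ |>.mpr fun O hO => ?_)
  rw [(PrespectralSpace.isTopologicalBasis (X := F.obj j)).open_eq_sUnion' hO, Set.preimage_sUnion]
  refine @isOpen_biUnion _ _ (TopologicalSpace.induced (coord c) inferInstance) _ _ fun V hV => ?_
  exact isOpen_induced_iff.mpr ⟨{p | p ⟨j, V, hV.1⟩},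
    continuous_Prop.mp (continuous_apply (A := fun _ : Coord F => Prop) (⟨j, V, hV.1⟩ : Coord F)), rfl⟩

theorem coord_injective (c : Cone F) (hc : IsLimit c) [∀ j, SpectralSpace (F.obj j)] : Function.Injective (coord c) := by
  intro x y h
  refine (Types.isLimitEquivSections (isLimitOfPreserves (forget TopCat) hc)).injective (Subtype.ext (funext fun j => ?_))
  show c.π.app j x = c.π.app j y
  refine ((PrespectralSpace.isTopologicalBasis (X := F.obj j)).inseparable_iff.mpr fun V hV => ?_).eq
  exact iff_of_eq (congrFun h ⟨j, V, hV⟩)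

theorem isClopen_box {I : Type*} (G : Finset I) : @IsClopen _ (constructibleTopology (I → Prop)) (box G) := by
  haveI := spectralSpace_pi (I := I)
  exact ProConsLib.isClopen_cons_of_isConstructible ((isCompact_box G).isConstructible (isOpen_box G))

theorem isClosed_range_coord (c : Cone F) (hc : IsLimit c) [∀ j, SpectralSpace (F.obj j)]
    (hFm : ∀ {i j : J} (a : i ⟶ j), IsSpectralMap (F.map a : F.obj i → F.obj j)) :
    IsClosed[constructibleTopology (Coord F → Prop)] (Set.range (coord c)) := by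
  classical
  let r : ∀ j, (Coord F → Prop) → (CO (F.obj j) → Prop) := fun j p U => p ⟨j, U⟩
  let pre : ∀ {i j : J}, (i ⟶ j) → CO (F.obj j) → CO (F.obj i) := fun a U =>
    ⟨(F.map a : _ → _) ⁻¹' U.1, U.2.1.preimage (hFm a).continuous, (hFm a).isCompact_preimage_of_isOpen U.2.1 U.2.2⟩
  have hA : Set.range (coord c) = (⋂ j, r j ⁻¹' Set.range (mem' (X := F.obj j))) ∩
      ⋂ (t : Σ (i : J) (j : J), (i ⟶ j) × CO (F.obj j)), {p | p ⟨t.2.1, t.2.2.2⟩ ↔ p ⟨t.1, pre t.2.2.1 t.2.2.2⟩} := by
    refine Set.Subset.antisymm ?_ ?_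
    · rintro _ ⟨x, rfl⟩
      refine ⟨Set.mem_iInter.mpr fun j => ⟨c.π.app j x, rfl⟩, Set.mem_iInter.mpr fun ⟨i, j, a, U⟩ => ?_⟩
      show c.π.app j x ∈ U.1 ↔ F.map a (c.π.app i x) ∈ U.1
      rw [← c.w a]
      rfl
    · rintro p ⟨h1, h2⟩
      choose x hx using fun j => Set.mem_iInter.mp h1 j
      have hs : ∀ {i j : J} (a : i ⟶ j), F.map a (x i) = x j := fun {i j} a => by
        refine ((PrespectralSpace.isTopologicalBasis (X := F.obj j)).inseparable_iff.mpr fun V hV => ?_).eq
        have e1 : (x j ∈ V) = p ⟨j, V, hV⟩ := congrFun (hx j) ⟨V, hV⟩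
        have e2 : (x i ∈ (F.map a : _ → _) ⁻¹' V) = p ⟨i, pre a ⟨V, hV⟩⟩ := congrFun (hx i) (pre a ⟨V, hV⟩)
        rw [e1]
        exact (iff_of_eq e2).trans (Set.mem_iInter.mp h2 ⟨i, j, a, V, hV⟩).symm
      let e := Types.isLimitEquivSections (isLimitOfPreserves (forget TopCat) hc)
      refine ⟨e.symm ⟨x, fun a => hs a⟩, funext fun k => ?_⟩
      have := congrFun (congrArg Subtype.val (e.apply_symm_apply ⟨x, fun a => hs a⟩)) k.1
      show (c.π.app k.1 _ ∈ k.2.1) = p k
      rw [show c.π.app k.1 (e.symm ⟨x, fun a => hs a⟩) = x k.1 from this]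
      exact congrFun (hx k.1) k.2
  rw [hA]
  refine @IsClosed.inter _ _ _ (constructibleTopology (Coord F → Prop)) ?_ ?_
  · refine @isClosed_iInter _ _ (constructibleTopology (Coord F → Prop)) _ fun j => ?_
    refine @IsClosed.preimage _ _ (constructibleTopology (Coord F → Prop)) (constructibleTopology _) (r j) ?_ _
      (isClosed_range_pi continuous_mem' isCompact_preimage_mem')
    refine continuous_cons_pi (continuous_pi fun U => continuous_apply _) fun G => ?_
    have : r j ⁻¹' box G = box (G.image fun U => (⟨j, U⟩ : Coord F)) := by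
      ext p; simp only [r, box, Set.mem_preimage, Set.mem_setOf_eq, Finset.forall_mem_image]
    rw [this]
    exact isCompact_box _
  · refine @isClosed_iInter _ _ (constructibleTopology (Coord F → Prop)) _ fun t => ?_
    have : ∀ a b : Coord F, {p : Coord F → Prop | p a ↔ p b} = (box {a} ∩ box {b}) ∪ ((box {a})ᶜ ∩ (box {b})ᶜ) := fun a b => by
      ext p; simp [box]; tauto
    rw [this]
    letI := constructibleTopology (Coord F → Prop)
    exact ((isClopen_box _).1.inter (isClopen_box _).1).union ((isClopen_box _).compl.1.inter (isClopen_box _).compl.1)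

theorem isEmbedding_coord (c : Cone F) (hc : IsLimit c) [∀ j, SpectralSpace (F.obj j)] : IsEmbedding (coord c) :=
  ⟨isInducing_coord c hc, coord_injective c hc⟩

theorem spectralSpace_limit (c : Cone F) (hc : IsLimit c) [∀ j, SpectralSpace (F.obj j)]
    (hFm : ∀ {i j : J} (a : i ⟶ j), IsSpectralMap (F.map a : F.obj i → F.obj j)) : SpectralSpace c.pt := by
  haveI := spectralSpace_pi (I := Coord F)
  haveI := spectralSpace_of_isClosed_cons (isClosed_range_coord c hc hFm)
  let e := (isEmbedding_coord c hc).toHomeomorph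
  haveI : CompactSpace c.pt := e.symm.compactSpace
  exact e.isOpenEmbedding.spectralSpace

theorem isCompact_preimage_coord (c : Cone F) (hc : IsLimit c) [∀ j, SpectralSpace (F.obj j)]
    (hFm : ∀ {i j : J} (a : i ⟶ j), IsSpectralMap (F.map a : F.obj i → F.obj j)) (G : Finset (Coord F)) :
    IsCompact (coord c ⁻¹' box G) := by
  haveI := spectralSpace_pi (I := Coord F)
  rw [(isInducing_coord c hc).isCompact_iff, Set.image_preimage_eq_inter_range]
  exact isCompact_of_isClosed_cons (@IsClosed.inter _ _ _ (constructibleTopology (Coord F → Prop)) (isClopen_box G).1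
    (isClosed_range_coord c hc hFm))

theorem isSpectralMap_π (c : Cone F) (hc : IsLimit c) [∀ j, SpectralSpace (F.obj j)]
    (hFm : ∀ {i j : J} (a : i ⟶ j), IsSpectralMap (F.map a : F.obj i → F.obj j)) (j : J) :
    IsSpectralMap (c.π.app j : c.pt → F.obj j) := by
  refine ⟨(c.π.app j).hom.continuous, fun s hso hsc => ?_⟩
  have : (c.π.app j : c.pt → F.obj j) ⁻¹' s = coord c ⁻¹' box {⟨j, s, hso, hsc⟩} := by
    ext x; simp [coord, box]
  rw [this]
  exact isCompact_preimage_coord c hc hFm _

variable [IsCofiltered J]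

theorem exists_stage_of_isCompact_isOpen (c : Cone F) (hc : IsLimit c) [∀ j, SpectralSpace (F.obj j)]
    (hFm : ∀ {i j : J} (a : i ⟶ j), IsSpectralMap (F.map a : F.obj i → F.obj j))
    {V : Set c.pt} (hVo : IsOpen V) (hVc : IsCompact V) :
    ∃ (i : J) (W : Set (F.obj i)), IsOpen W ∧ IsCompact W ∧ (c.π.app i : c.pt → F.obj i) ⁻¹' W = V := by
  classical
  obtain ⟨t, ht⟩ := hVc.elim_finite_subcover (fun G : {G : Finset (Coord F) // coord c ⁻¹' box G ⊆ V} => coord c ⁻¹' box G.1)
    (fun G => (isOpen_box G.1).preimage (continuous_coord c)) fun x hx => by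
      obtain ⟨O, hO, hOV⟩ := (isInducing_coord c hc).isOpen_iff.mp hVo
      obtain ⟨_, ⟨G, rfl⟩, hG, hGO⟩ := isTopologicalBasis_box.exists_subset_of_mem_open (show coord c x ∈ O by rw [← hOV] at hx; exact hx) hO
      exact Set.mem_iUnion.mpr ⟨⟨G, (Set.preimage_mono hGO).trans hOV.le⟩, hG⟩
  obtain ⟨i, hi⟩ := IsCofiltered.inf_objs_exists (t.biUnion fun G => G.1.image Sigma.fst)
  have hi' : ∀ G ∈ t, ∀ k ∈ G.1, ∃ _ : i ⟶ k.1, True := fun G hG k hk =>
    ⟨(hi (Finset.mem_biUnion.mpr ⟨G, hG, Finset.mem_image_of_mem _ hk⟩)).some, trivial⟩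
  choose a _ using hi'
  refine ⟨i, ⋃ G : t, ⋂ k : G.1.1, (F.map (a G.1 G.2 k.1 k.2) : _ → _) ⁻¹' k.1.2.1, isOpen_iUnion fun G => isOpen_iInter_of_finite fun k =>
    k.1.2.2.1.preimage (hFm _).continuous, isCompact_iUnion fun G => ?_, ?_⟩
  · rw [← Set.sInter_range]
    exact QuasiSeparatedSpace.isCompact_sInter (Set.finite_range _) (by rintro _ ⟨k, rfl⟩; exact Or.inl (k.1.2.2.1.preimage (hFm _).continuous))
      (by rintro _ ⟨k, rfl⟩; exact (hFm _).isCompact_preimage_of_isOpen k.1.2.2.1 k.1.2.2.2)
  · have key : ∀ (G) (hG : G ∈ t) (k) (hk : k ∈ G.1) (x : c.pt), F.map (a G hG k hk) (c.π.app i x) = c.π.app k.1 x := fun G hG k hk x => by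
      rw [← c.w (a G hG k hk)]; rfl
    refine Set.Subset.antisymm (fun x hx => ?_) fun x hx => ?_
    · obtain ⟨G, hG⟩ := Set.mem_iUnion.mp hx
      exact G.1.2 (fun k hk => by
        have := Set.mem_iInter.mp hG ⟨k, hk⟩
        simpa [coord, key] using this)
    · obtain ⟨G, hG, hxG⟩ := Set.mem_iUnion₂.mp (ht hx)
      exact Set.mem_iUnion.mpr ⟨⟨G, hG⟩, Set.mem_iInter.mpr fun k => by
        have := hxG k.1 k.2
        simpa [coord, key] using this⟩

end Groth.Agent.LimSpecLib
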