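import Groth.Agent.LimSpecLib.Basic
import Groth.Agent.SpecSubLib.More

/-! # Points of cofiltered limits with constructibly closed constraints -/

set_option autoImplicit false
universe u

open Topology TopologicalSpace Set CategoryTheory CategoryTheory.Limits

namespace Groth.Agent.LimSpecLib

open Groth.Agent.SpecSubLib

variable {J : Type u} [SmallCategory J] [IsCofiltered J] {F : J ⥤ TopCat.{u}}

theorem exists_point (c : Cone F) (hc : IsLimit c) [∀ j, SpectralSpace (F.obj j)]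
    (hFm : ∀ {i j : J} (a : i ⟶ j), IsSpectralMap (F.map a : F.obj i → F.obj j))
    (Z : ∀ j, Set (F.obj j)) (hZc : ∀ j, IsClosed[constructibleTopology (F.obj j)] (Z j))
    (hZ : ∀ (k : J) (O : Finset J) (a : ∀ j ∈ O, k ⟶ j), ∃ y : F.obj k, ∀ j (h : j ∈ O), F.map (a j h) y ∈ Z j) :
    ∃ x : c.pt, ∀ j, c.π.app j x ∈ Z j := by
  classical
  letI τ : ∀ j, TopologicalSpace (F.obj j) := fun j => constructibleTopology (F.obj j)
  haveI : ∀ j, @CompactSpace (F.obj j) (τ j) := fun j => @ProConsLib.compactSpace_cons (F.obj j) (F.obj j).str _ _ _ _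
  haveI : ∀ j, @T2Space (F.obj j) (τ j) := fun j => @ProConsLib.t2Space_cons (F.obj j) (F.obj j).str _ _ _ _ _
  let Idx := J ⊕ (Σ (i : J) (j : J), (i ⟶ j))
  let C : Idx → Set (∀ j, F.obj j) := Sum.elim (fun j => (fun x => x j) ⁻¹' Z j) (fun t => {x | F.map t.2.2 (x t.1) = x t.2.1})
  have hC : ∀ i, IsClosed (C i) := by
    rintro (j | ⟨i, j, a⟩)
    · exact (hZc j).preimage (continuous_apply j)
    · exact isClosed_eq ((@continuous_cons_of_isSpectralMap _ _ (F.obj i).str (F.obj j).str _ (hFm a)).comp (continuous_apply i)) (continuous_apply j)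
  have key : (⋂ i, C i).Nonempty := by
    rw [← Set.univ_inter (⋂ i, C i)]
    refine isCompact_univ.inter_iInter_nonempty C hC fun t => ?_
    let arrows : Finset (Σ (i : J) (j : J), (i ⟶ j)) := t.biUnion (Sum.elim (fun _ => ∅) fun s => {s})
    let O : Finset J := t.biUnion (Sum.elim (fun j => {j}) fun s => {s.1, s.2.1})
    have hO : ∀ s ∈ arrows, s.1 ∈ O ∧ s.2.1 ∈ O := fun s hs => by
      obtain ⟨w, hw, hsw⟩ := Finset.mem_biUnion.mp hs
      rcases w with j | w
      · simp at hsw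
      · obtain rfl : s = w := by simpa using hsw
        exact ⟨Finset.mem_biUnion.mpr ⟨_, hw, by simp⟩, Finset.mem_biUnion.mpr ⟨_, hw, by simp⟩⟩
    let H : Finset (Σ' (X Y : J) (_ : X ∈ O) (_ : Y ∈ O), X ⟶ Y) :=
      arrows.attach.image fun s => ⟨s.1.1, s.1.2.1, (hO s.1 s.2).1, (hO s.1 s.2).2, s.1.2.2⟩
    obtain ⟨k, T, hT⟩ := IsCofiltered.inf_exists O H
    obtain ⟨y, hy⟩ := hZ k O fun j hj => T hj
    let x : ∀ j, F.obj j := fun j => if h : j ∈ O then F.map (T h) y else
      (show F.obj j from (hZ j ∅ (fun _ h => absurd h (Finset.notMem_empty _))).choose)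
    refine ⟨x, trivial, Set.mem_iInter₂.mpr ?_⟩
    rintro (j | ⟨i, j, a⟩) hw
    · have hj : j ∈ O := Finset.mem_biUnion.mpr ⟨_, hw, by simp⟩
      show x j ∈ Z j
      simp only [x, dif_pos hj]
      exact hy j hj
    · have hmem : (⟨i, j, a⟩ : Σ (i : J) (j : J), (i ⟶ j)) ∈ arrows := Finset.mem_biUnion.mpr ⟨_, hw, by simp⟩
      show F.map a (x i) = x j
      simp only [x, dif_pos (hO _ hmem).1, dif_pos (hO _ hmem).2]
      have hcomm := hT (hO _ hmem).1 (hO _ hmem).2 (f := a) (Finset.mem_image.mpr ⟨⟨_, hmem⟩, Finset.mem_attach _ _, rfl⟩)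
      rw [← hcomm, F.map_comp]
      rfl
  obtain ⟨x, hx⟩ := key
  let e := Types.isLimitEquivSections (isLimitOfPreserves (forget TopCat) hc)
  have hs : ∀ {i j : J} (a : i ⟶ j), F.map a (x i) = x j := fun {i j} a => Set.mem_iInter.mp hx (Sum.inr ⟨i, j, a⟩)
  refine ⟨e.symm ⟨x, fun a => hs a⟩, fun j => ?_⟩
  have := congrFun (congrArg Subtype.val (e.apply_symm_apply ⟨x, fun a => hs a⟩)) j
  rw [show c.π.app j (e.symm ⟨x, fun a => hs a⟩) = x j from this]
  exact Set.mem_iInter.mp hx (Sum.inl j)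

theorem exists_hom_of_preimage_subset (c : Cone F) (hc : IsLimit c) [∀ j, SpectralSpace (F.obj j)]
    (hFm : ∀ {i j : J} (a : i ⟶ j), IsSpectralMap (F.map a : F.obj i → F.obj j)) (i : J) (E G : Set (F.obj i))
    (hE : IsClosed[constructibleTopology (F.obj i)] E) (hG : IsOpen[constructibleTopology (F.obj i)] G)
    (h : (c.π.app i : c.pt → F.obj i) ⁻¹' E ⊆ (c.π.app i : c.pt → F.obj i) ⁻¹' G) :
    ∃ (j : J) (a : j ⟶ i), (F.map a : F.obj j → F.obj i) ⁻¹' E ⊆ (F.map a : F.obj j → F.obj i) ⁻¹' G := by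
  classical
  by_contra! hne
  let Z : ∀ j, Set (F.obj j) := fun j => if h : j = i then (eqToHom (congrArg F.obj h) : F.obj j → F.obj i) ⁻¹' (E ∩ Gᶜ) else univ
  have hEG : IsClosed[constructibleTopology (F.obj i)] (E ∩ Gᶜ) :=
    @IsClosed.inter _ _ _ (constructibleTopology (F.obj i)) hE (@isClosed_compl_iff _ (constructibleTopology (F.obj i)) _ |>.mpr hG)
  obtain ⟨x, hx⟩ := exists_point c hc hFm Z (fun j => by
    by_cases hj : j = i
    · subst hj; simpa [Z] using hEG
    · simp only [Z, dif_neg hj]; exact @isClosed_univ _ (constructibleTopology (F.obj j))) (fun k O a => by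
    by_cases hi : i ∈ O
    · obtain ⟨y, hyE, hyG⟩ := Set.not_subset.mp (hne k (a i hi))
      refine ⟨y, fun j hj => ?_⟩
      by_cases hji : j = i
      · subst hji; simpa [Z] using And.intro hyE hyG
      · simp [Z, hji]
    · obtain ⟨y, -, -⟩ := Set.not_subset.mp (hne _ (IsCofiltered.minToRight k i))
      exact ⟨F.map (IsCofiltered.minToLeft k i) y, fun j hj => by simp [Z, show j ≠ i from fun e => hi (e ▸ hj)]⟩)
  have := hx i
  simp [Z] at this
  exact this.2 (h this.1)

end Groth.Agent.LimSpecLib
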